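import Mathlib
import Cfsg.Prelude.Def_OddOrderLocal
import Cfsg.Prelude.Def_CaseTheorems
import Cfsg.Agent.Lib.TwoGroups85.MaxClass

/-!
# Metacyclic 2-groups containing a swapped homocyclic pair or a quaternion group of order 8

Such a group is dihedral, semidihedral or generalized quaternion.
-/

namespace CfsgLib.MetaTwoFusion

open Subgroup
open scoped commutatorElement
open CfsgLib.TwoGroups85 (IsDSQ)

variable {G : Type*} [Group G]

theorem eq_of_sq_eq_one_of_isCyclic [IsCyclic G] [Finite G] {y z : G} (hy : y ^ 2 = 1) (hz : z ^ 2 = 1)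
    (hy1 : y ≠ 1) (hz1 : z ≠ 1) : y = z := by
  classical
  by_contra h
  have := Fintype.ofFinite G
  have h2 := IsCyclic.card_pow_eq_one_le (α := G) (n := 2) two_pos
  have h3 : ({1, y, z} : Finset G) ⊆ ({a : G | a ^ 2 = 1} : Finset G) := by
    intro a ha
    simp only [Finset.mem_insert, Finset.mem_singleton] at ha
    rcases ha with rfl | rfl | rfl <;> simp [hy, hz]
  have h4 : ({1, y, z} : Finset G).card = 3 := by
    rw [Finset.card_eq_three]
    exact ⟨1, y, z, fun e => hy1 e.symm, fun e => hz1 e.symm, h, rfl⟩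
  have := Finset.card_le_card h3
  omega

/-- A metacyclic 2-group with an element of order 4 in the cyclic normal subgroup, inverted by an element
squaring into it. -/
theorem isDSQ_of_inverted [Finite G] (hG : IsPGroup 2 G) (N : Subgroup G) [N.Normal] [IsCyclic N]
    [IsCyclic (G ⧸ N)] {i j : G} (hi : i ∈ N) (hi2 : i ^ 2 ≠ 1) (hi4 : i ^ 4 = 1)
    (hj : j * i * j⁻¹ = i⁻¹) (hj2 : j ^ 2 ∈ N) : IsDSQ G := by
  classical
  have : Fact (Nat.Prime 2) := ⟨Nat.prime_two⟩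
  have hio : orderOf i = 4 := orderOf_eq_prime_pow (p := 2) (n := 1) (by simpa using hi2) (by simpa using hi4)
  obtain ⟨u, hu⟩ := (Subgroup.isCyclic_iff_exists_zpowers_eq_top N).mp inferInstance
  have huN : u ∈ N := hu ▸ mem_zpowers u
  obtain ⟨k, hk⟩ := mem_zpowers_iff.mp (hu.ge hi : i ∈ zpowers u)
  have hconj : ∀ g : G, ∃ s : ℤ, g * u * g⁻¹ = u ^ s ∧ g * i * g⁻¹ = i ^ s := fun g => by
    obtain ⟨s, hs⟩ := mem_zpowers_iff.mp (hu.ge (‹N.Normal›.conj_mem u huN g) : g * u * g⁻¹ ∈ zpowers u)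
    refine ⟨s, hs.symm, ?_⟩
    rw [← hk, show g * u ^ k * g⁻¹ = (g * u * g⁻¹) ^ k from by rw [conj_zpow], ← hs, ← zpow_mul, ← zpow_mul,
      mul_comm]
  have hne : i⁻¹ ≠ i := fun h => hi2 (by rw [pow_two]; nth_rewrite 1 [← h]; exact inv_mul_cancel i)
  have hjN : j ∉ N := fun h => by
    have hc : j * i = i * j :=
      congrArg Subtype.val ((IsMulCommutative.is_comm (M := N)).comm ⟨j, h⟩ ⟨i, hi⟩)
    rw [hc, mul_inv_cancel_right] at hj
    exact hne hj.symm
  obtain ⟨v, hv⟩ := IsCyclic.exists_generator (α := G ⧸ N)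
  obtain ⟨v, rfl⟩ := QuotientGroup.mk'_surjective N v
  obtain ⟨e, he⟩ := mem_zpowers_iff.mp (hv (j : G ⧸ N))
  have hjv : ∃ n ∈ N, j = v ^ e * n := by
    refine ⟨(v ^ e)⁻¹ * j, ?_, (mul_inv_cancel_left _ _).symm⟩
    rw [← QuotientGroup.eq, QuotientGroup.mk_zpow]
    exact he
  have heodd : ¬ (2 : ℤ) ∣ e := by
    rintro ⟨d, rfl⟩
    obtain ⟨n, hn, rfl⟩ := hjv
    obtain ⟨s, -, hs⟩ := hconj (v ^ d)
    have hni : n * i * n⁻¹ = i := by
      have hc : n * i = i * n :=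
        congrArg Subtype.val ((IsMulCommutative.is_comm (M := N)).comm ⟨n, hn⟩ ⟨i, hi⟩)
      rw [hc, mul_inv_cancel_right]
    refine hne ?_
    rw [← hj]
    have hwi : v ^ d * i * (v ^ d)⁻¹ = i ∨ v ^ d * i * (v ^ d)⁻¹ = i⁻¹ := by
      have hs4 : i ^ s = i ^ (s % 4) := by
        have := zpow_mod_orderOf i s
        rw [hio] at this
        exact this.symm
      rw [hs, hs4]
      rcases (by omega : s % 4 = 0 ∨ s % 4 = 1 ∨ s % 4 = 2 ∨ s % 4 = 3) with h | h | h | h <;> rw [h]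
      · exfalso
        rw [hs4, h, zpow_zero, conj_eq_one_iff] at hs
        exact hi2 (by rw [hs, one_pow])
      · exact Or.inl (zpow_one i)
      · exfalso
        rw [hs4, h] at hs
        have h' := congrArg (· ^ 2) hs
        simp only [conj_pow] at h'
        rw [← zpow_natCast (i ^ (2:ℤ)) 2, ← zpow_mul, show ((2:ℤ) * ((2:ℕ):ℤ)) = ((4:ℕ):ℤ) by norm_num,
          zpow_natCast, hi4, conj_eq_one_iff] at h'
        exact hi2 h'
      · right
        rw [show (3 : ℤ) = ((4 : ℕ) : ℤ) - 1 by norm_num, zpow_sub_one, zpow_natCast, hi4, one_mul]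
    rw [two_mul, zpow_add]
    calc v ^ d * v ^ d * n * i * (v ^ d * v ^ d * n)⁻¹
        = v ^ d * (v ^ d * (n * i * n⁻¹) * (v ^ d)⁻¹) * (v ^ d)⁻¹ := by group
      _ = i := by
        rw [hni]
        rcases hwi with h | h
        · rw [h, h]
        · rw [h, show v ^ d * i⁻¹ * (v ^ d)⁻¹ = (v ^ d * i * (v ^ d)⁻¹)⁻¹ by group, h, inv_inv]
  -- the quotient has order two, generated by the image of `j`
  have hv2 : ((v : G ⧸ N)) ^ 2 = 1 := by
    obtain ⟨r, hr⟩ := IsPGroup.iff_orderOf.mp (hG.to_quotient N) (v : G ⧸ N)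
    refine orderOf_dvd_iff_pow_eq_one.mp ?_
    have h1 : ((v : G ⧸ N)) ^ (e * 2) = 1 := by
      rw [zpow_mul]
      show (QuotientGroup.mk' N v ^ e) ^ (2 : ℤ) = 1
      rw [he, show (2:ℤ) = ((2:ℕ):ℤ) from rfl, zpow_natCast, ← QuotientGroup.mk_pow, QuotientGroup.eq_one_iff]
      exact hj2
    rw [← orderOf_dvd_iff_zpow_eq_one] at h1
    have h2 : IsCoprime ((orderOf (v : G ⧸ N) : ℤ)) e := by
      rw [hr, Nat.cast_pow]
      exact ((Int.prime_two.coprime_iff_not_dvd).mpr heodd).pow_left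
    exact_mod_cast h2.dvd_of_dvd_mul_left h1
  have hjbar : (j : G ⧸ N) = (v : G ⧸ N) := by
    obtain ⟨d, hd⟩ : ∃ d, e = 2 * d + 1 := ⟨e / 2, by omega⟩
    rw [← he, hd, zpow_add, zpow_mul, zpow_one]
    show ((v : G ⧸ N) ^ (2:ℤ)) ^ d * (v : G ⧸ N) = _
    rw [show (2:ℤ) = ((2:ℕ):ℤ) from rfl, zpow_natCast, hv2, one_zpow, one_mul]
  have hdec : ∀ g : G, g ∈ N ∨ g * j⁻¹ ∈ N := fun g => by
    obtain ⟨c, hc⟩ := mem_zpowers_iff.mp (hv (g : G ⧸ N))
    rw [QuotientGroup.mk'_apply] at hc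
    rcases Int.even_or_odd c with ⟨d, rfl⟩ | ⟨d, rfl⟩
    · left
      rw [← QuotientGroup.eq_one_iff, ← hc, ← two_mul, zpow_mul,
        show (2:ℤ) = ((2:ℕ):ℤ) from rfl, zpow_natCast, hv2, one_zpow]
    · right
      rw [← QuotientGroup.eq_one_iff, QuotientGroup.mk_mul, QuotientGroup.mk_inv, ← hc, hjbar, zpow_add,
        zpow_mul, show (2:ℤ) = ((2:ℕ):ℤ) from rfl, zpow_natCast, hv2, one_zpow, one_mul, zpow_one,
        mul_inv_cancel]
  have hN2 : N.index = 2 := by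
    rw [Subgroup.index_eq_two_iff]
    refine ⟨j⁻¹, fun b => ?_⟩
    rcases hdec b with h | h
    · exact Or.inr ⟨h, fun h' => hjN (by
        have := N.mul_mem (N.inv_mem h') h
        rwa [mul_inv_rev, inv_inv, mul_assoc, inv_mul_cancel, mul_one] at this)⟩
    · exact Or.inl ⟨h, fun h' => hjN (by
        have := N.mul_mem (N.inv_mem h) h'
        rwa [mul_inv_rev, inv_inv, mul_assoc, inv_mul_cancel, mul_one] at this)⟩
  obtain ⟨s, hsu, hsi⟩ := hconj j
  have hs4 : (4 : ℤ) ∣ s + 1 := by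
    rw [show (4:ℤ) = ((orderOf i : ℕ) : ℤ) by rw [hio]; rfl, orderOf_dvd_iff_zpow_eq_one, zpow_add_one,
      ← hsi, hj, inv_mul_cancel]
  obtain ⟨m, hm⟩ := IsPGroup.iff_orderOf.mp hG u
  set M := zpowers (u ^ 2) with hM
  have hMG : M ≤ commutator G := by
    have hc : u ^ (s - 1) ∈ commutator G := by
      rw [zpow_sub_one, ← hsu]
      exact commutator_mem_commutator (mem_top j) (mem_top u)
    obtain ⟨w, hw⟩ : ∃ w, s - 1 = 2 * (2 * w + 1) := by
      obtain ⟨t, ht⟩ := hs4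
      exact ⟨t - 1, by omega⟩
    have h2 : IsCoprime (2 * w + 1) ((orderOf u : ℤ)) := by
      rw [hm, Nat.cast_pow]
      exact ((Int.prime_two.coprime_iff_not_dvd).mpr (by omega)).symm.pow_right
    obtain ⟨a, b, hab⟩ := h2
    rw [hM, zpowers_le]
    have hone : u ^ ((orderOf u : ℤ)) = 1 := by rw [zpow_natCast, pow_orderOf_eq_one]
    have : u ^ 2 = (u ^ (s - 1)) ^ a := by
      rw [← zpow_mul, hw, show 2 * (2 * w + 1) * a = (2:ℤ) - (orderOf u : ℤ) * (2 * b) by linear_combination 2 * hab,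
        zpow_sub, zpow_mul _ (orderOf u : ℤ), hone, one_zpow, inv_one, mul_one]
      exact (zpow_natCast u 2).symm
    rw [this]
    exact Subgroup.zpow_mem _ hc a
  have hMn : M.Normal := ⟨fun x hx g => by
    obtain ⟨c, rfl⟩ := mem_zpowers_iff.mp hx
    obtain ⟨s', hs', -⟩ := hconj g
    rw [← conj_zpow, ← conj_pow, hs']
    refine Subgroup.zpow_mem _ (mem_zpowers_iff.mpr ⟨s', ?_⟩) c
    rw [← zpow_natCast u 2, ← zpow_mul, ← zpow_natCast (u ^ s') 2, ← zpow_mul, mul_comm]⟩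
  have hio' : 4 ≤ orderOf u := by
    rw [← hio]
    exact Nat.le_of_dvd (orderOf_pos u) (orderOf_dvd_of_mem_zpowers (hu.ge hi))
  have hNc : Nat.card N = orderOf u := by rw [← hu, Nat.card_zpowers]
  have hcG : Nat.card G = 2 * orderOf u := by
    rw [← N.card_mul_index, hNc, hN2, mul_comm]
  have hm2 : 2 ≤ m := by
    rw [hm] at hio'
    by_contra h
    have : 2 ^ m ≤ 2 ^ 1 := Nat.pow_le_pow_right two_pos (by omega)
    omega
  have hMi : M.index = 4 := by
    have h1 := M.card_mul_index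
    have h2 : orderOf (u ^ 2) = 2 ^ (m - 1) := by
      rw [orderOf_pow_of_dvd two_ne_zero (hm ▸ dvd_pow_self 2 (by omega)), hm,
        ← Nat.pow_div (by omega) two_pos, pow_one]
    rw [Nat.card_zpowers, h2, hcG, hm] at h1
    have h3 : 2 * 2 ^ m = 2 ^ (m - 1) * 4 := by
      obtain ⟨m', rfl⟩ : ∃ m', m = m' + 1 := ⟨m - 1, by omega⟩
      simp [pow_succ]; ring
    rw [h3] at h1
    exact Nat.eq_of_mul_eq_mul_left (by positivity) h1
  have hGM : commutator G ≤ M := by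
    have hc : Nat.card (G ⧸ M) = 2 ^ 2 := by rw [← Subgroup.index_eq_card, hMi]; norm_num
    rw [commutator_eq_closure, closure_le]
    rintro _ ⟨a, b, rfl⟩
    rw [SetLike.mem_coe, ← QuotientGroup.eq_one_iff]
    show QuotientGroup.mk' M ⁅a, b⁆ = 1
    rw [map_commutatorElement, commutatorElement_eq_one_iff_mul_comm]
    exact IsPGroup.commutative_of_card_eq_prime_sq hc _ _
  refine CfsgLib.TwoGroups85.isDSQ_of_maximalClass (n := m + 1) (by omega) (by rw [hcG, hm, pow_succ']) ?_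
  refine CfsgLib.MaxClass.class_of_abelianization (m + 1) G (by omega) (by rw [hcG, hm, pow_succ']) ?_
  rw [← Subgroup.index_eq_card, le_antisymm hGM hMG, hMi]

/-- A metacyclic 2-group containing a quaternion group of order 8. -/
theorem isDSQ_of_quaternion [Finite G] (hG : IsPGroup 2 G) (hm : Cfsg.IsMetacyclic G) {Q : Subgroup G}
    (e : Q ≃* QuaternionGroup 2) : IsDSQ G := by
  obtain ⟨N, hN, hNc, hqc⟩ := hm
  let f : QuaternionGroup 2 →* G := Q.subtype.comp e.symm.toMonoidHom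
  have hf : Function.Injective f := Subtype.val_injective.comp e.symm.injective
  set a : G := f (QuaternionGroup.a 1) with ha
  set b : G := f (QuaternionGroup.xa 0) with hb
  have h1 : b * a * b⁻¹ = a⁻¹ := by
    rw [ha, hb, ← map_inv, ← map_mul, ← map_mul, ← map_inv]
    exact congrArg f (by decide)
  have h2 : a ^ 4 = 1 := by
    rw [ha, ← map_pow, ← map_one f]
    exact congrArg f (by decide)
  have h3 : b ^ 2 = a ^ 2 := by
    rw [ha, hb, ← map_pow, ← map_pow]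
    exact congrArg f (by decide)
  have h4 : a ^ 2 ≠ 1 := fun h => by
    rw [ha, ← map_pow, ← map_one f] at h
    exact absurd (hf h) (by decide)
  have haN : a ^ 2 ∈ N := by
    have h : ⁅b, a⁆ = (a ^ 2)⁻¹ := by rw [commutatorElement_def, h1]; group
    rw [← N.inv_mem_iff, ← h, ← QuotientGroup.eq_one_iff]
    show QuotientGroup.mk' N ⁅b, a⁆ = 1
    rw [map_commutatorElement, commutatorElement_eq_one_iff_mul_comm]
    exact (IsMulCommutative.is_comm (M := G ⧸ N)).comm _ _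
  have hbN : b ^ 2 ∈ N := h3 ▸ haN
  by_cases hA : a ∈ N
  · exact isDSQ_of_inverted hG N hA h4 h2 h1 hbN
  by_cases hB : b ∈ N
  · refine isDSQ_of_inverted hG N hB (h3 ▸ h4) ?_ ?_ haN (j := a)
    · rw [show (4:ℕ) = 2 * 2 from rfl, pow_mul, h3, ← pow_mul]; exact h2
    · have e1 : a * b = b * a⁻¹ := by
        have := congrArg (·⁻¹) h1
        simp only [mul_inv_rev, inv_inv] at this
        calc a * b = (b * (a⁻¹ * b⁻¹)) * b := by rw [this]
          _ = b * a⁻¹ := by group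
      rw [e1]
      calc b * a⁻¹ * a⁻¹ = b * (a ^ 2)⁻¹ := by group
        _ = b * (b ^ 2)⁻¹ := by rw [h3]
        _ = b⁻¹ := by group
  have hAB : a * b ∈ N := by
    rw [← QuotientGroup.eq_one_iff, QuotientGroup.mk_mul,
      eq_of_sq_eq_one_of_isCyclic (y := (a : G ⧸ N)) (z := (b : G ⧸ N))
        (by rw [← QuotientGroup.mk_pow, QuotientGroup.eq_one_iff]; exact haN)
        (by rw [← QuotientGroup.mk_pow, QuotientGroup.eq_one_iff]; exact hbN)
        (fun h => hA ((QuotientGroup.eq_one_iff a).mp h)) (fun h => hB ((QuotientGroup.eq_one_iff b).mp h)),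
      ← QuotientGroup.mk_mul, QuotientGroup.eq_one_iff, ← pow_two]
    exact hbN
  have hsq : (a * b) ^ 2 = a ^ 2 := by
    calc (a * b) ^ 2 = a * (b * a * b⁻¹) * b ^ 2 := by simp [pow_two, mul_assoc]
      _ = a ^ 2 := by rw [h1, h3]; group
  refine isDSQ_of_inverted hG N hAB (by rw [hsq]; exact h4) ?_ ?_ haN (j := a)
  · rw [show (4:ℕ) = 2 * 2 from rfl, pow_mul, hsq, ← pow_mul]; exact h2
  · have e1 : a * (a * b) * a⁻¹ = (a * b) * (b⁻¹ * (a * b) * a⁻¹) := by group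
    apply eq_inv_of_mul_eq_one_left
    calc a * (a * b) * a⁻¹ * (a * b) = a ^ 2 * b ^ 2 := by simp [pow_two, mul_assoc]
      _ = 1 := by rw [h3, ← pow_add]; exact h2

/-- A metacyclic 2-group containing `C_{2^n} × C_{2^n}` and an element swapping two generators, with square
inside. -/
theorem isDSQ_of_swap [Finite G] (hG : IsPGroup 2 G) (hm : Cfsg.IsMetacyclic G) {n : ℕ} (hn : 1 ≤ n)
    {a x : G} (ha : a ^ 2 ^ n = 1) (hab : a * (x * a * x⁻¹) = x * a * x⁻¹ * a)
    (hind : ∀ i j : ℤ, a ^ i * (x * a * x⁻¹) ^ j = 1 → (2 ^ n : ℤ) ∣ i ∧ (2 ^ n : ℤ) ∣ j)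
    (hx : ∃ i j : ℤ, x ^ 2 = a ^ i * (x * a * x⁻¹) ^ j) : IsDSQ G := by
  obtain ⟨N, hN, hNc, hqc⟩ := hm
  obtain ⟨i, j, hij⟩ := hx
  set b := x * a * x⁻¹ with hb
  have hc : Commute a b := hab
  have hxb : x * b * x⁻¹ = a := by
    have h : Commute (x ^ 2) a := hij ▸ ((Commute.refl a).zpow_left i).mul_left (hc.symm.zpow_left j)
    rw [hb, show x * (x * a * x⁻¹) * x⁻¹ = x ^ 2 * a * (x ^ 2)⁻¹ by simp [pow_two, mul_assoc], h.eq, mul_inv_cancel_right]
  have hbo : b ^ 2 ^ n = 1 := by rw [hb, conj_pow, ha, mul_one, mul_inv_cancel]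
  have hdiv : (2 ^ n : ℤ) ∣ j - i := by
    have h : a ^ j * b ^ i = a ^ i * b ^ j := by
      calc a ^ j * b ^ i = b ^ i * a ^ j := (hc.zpow_zpow j i).eq
        _ = (x * a * x⁻¹) ^ i * (x * b * x⁻¹) ^ j := by rw [hxb]
        _ = x * (a ^ i * b ^ j) * x⁻¹ := by rw [conj_zpow, conj_zpow]; group
        _ = a ^ i * b ^ j := by rw [← hij]; group
    refine (hind (j - i) (i - j) ?_).1
    calc a ^ (j - i) * b ^ (i - j) = a ^ (-i) * (a ^ j * b ^ i) * b ^ (-j) := by group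
      _ = 1 := by rw [h]; group
  have hbz : ∀ d : ℤ, (2 ^ n : ℤ) ∣ d → b ^ d = 1 := fun d ⟨w, hw⟩ => by
    rw [hw, zpow_mul, show (2 ^ n : ℤ) = ((2 ^ n : ℕ) : ℤ) by push_cast; rfl, zpow_natCast, hbo, one_zpow]
  set v := x * a ^ (-i) with hv
  have hv2 : v * v = 1 := by
    calc v * v = (x * a * x⁻¹) ^ (-i) * x ^ 2 * a ^ (-i) := by rw [conj_zpow, hv]; simp [pow_two, mul_assoc]
      _ = b ^ (-i) * a ^ i * b ^ j * a ^ (-i) := by rw [hij, ← hb, ← mul_assoc]
      _ = b ^ (j - i) := by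
        rw [mul_assoc (b ^ (-i)), (hc.zpow_zpow i j).eq]
        group
      _ = 1 := hbz _ hdiv
  have hvi : v⁻¹ = v := inv_eq_of_mul_eq_one_right hv2
  have hva : v * a * v⁻¹ = b := by rw [hb, hv]; group
  have hvb : v * b * v⁻¹ = a := by
    conv_lhs => rw [← hva]
    rw [hvi, show v * (v * a * v) * v = v * v * a * (v * v) by group, hv2, one_mul, mul_one]
  obtain ⟨m, rfl⟩ : ∃ m, n = m + 1 := ⟨n - 1, by omega⟩
  set h : ℤ := 2 ^ m with hh
  have hnd : ¬ ((2 : ℤ) ^ (m + 1) ∣ h) := fun hd => by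
    have := Int.le_of_dvd (by positivity) hd
    rw [hh, pow_succ] at this
    have : (0 : ℤ) < 2 ^ m := by positivity
    omega
  have hnd' : ¬ ((2 : ℤ) ^ (m + 1) ∣ -h) := fun hd => hnd (Int.dvd_neg.mp hd)
  set c := a⁻¹ * b with hcd
  have hcN : c ∈ N := by
    have : c = ⁅a⁻¹, v⁆ := by rw [commutatorElement_def, inv_inv, hcd, ← hva]; group
    rw [this, ← QuotientGroup.eq_one_iff]
    show QuotientGroup.mk' N ⁅a⁻¹, v⁆ = 1
    rw [map_commutatorElement, commutatorElement_eq_one_iff_mul_comm]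
    exact (IsMulCommutative.is_comm (M := G ⧸ N)).comm _ _
  have hNcomm : ∀ y ∈ N, ∀ z ∈ N, y * z = z * y := fun y hy z hz =>
    congrArg Subtype.val ((IsMulCommutative.is_comm (M := N)).comm ⟨y, hy⟩ ⟨z, hz⟩)
  have hch : c ^ h = a ^ (-h) * b ^ h := by rw [hcd, (hc.inv_left).mul_zpow, inv_zpow, zpow_neg]
  have hch1 : c ^ h ≠ 1 := fun e => hnd (hind (-h) h (hch ▸ e)).2
  have h2h : h + h = ((2 ^ (m + 1) : ℕ) : ℤ) := by rw [hh, pow_succ]; push_cast; ring
  have hah2 : (a ^ h) ^ 2 = 1 := by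
    rw [pow_two, ← zpow_add, h2h, zpow_natCast, ha]
  have hch2 : (c ^ h) ^ 2 = 1 := by
    rw [pow_two, ← zpow_add, h2h, zpow_natCast, hcd, (hc.inv_left).mul_pow, inv_pow, ha, hbo, inv_one, one_mul]
  have hcyc : ∀ y ∈ N, y ^ 2 = 1 → y ≠ 1 → y = c ^ h := fun y hy hy2 hy1 =>
    congrArg Subtype.val (eq_of_sq_eq_one_of_isCyclic (y := (⟨y, hy⟩ : N)) (z := ⟨c ^ h, Subgroup.zpow_mem _ hcN h⟩)
      (Subtype.ext hy2) (Subtype.ext hch2) (fun e => hy1 (congrArg Subtype.val e))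
      (fun e => hch1 (congrArg Subtype.val e)))
  have hu : a ^ h ∉ N := fun hu => by
    have e := hcyc _ hu hah2 (fun e => hnd (hind h 0 (by rw [e, zpow_zero, one_mul])).1)
    rw [hch] at e
    refine hnd (hind (-h - h) h ?_).2
    rw [show a ^ (-h - h) = a ^ (-h) * a ^ (-h) by group, mul_assoc, ← e]
    group
  have hone : ¬ a = b := fun e => by
    have h' := (hind 1 (-1) (by rw [← e, zpow_one, zpow_neg, zpow_one, mul_inv_cancel])).1
    have := Int.le_of_dvd one_pos h'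
    have : (0:ℤ) < 2 ^ m := by positivity
    rw [pow_succ] at *
    omega
  have hvN : v ∉ N := fun hvN => by
    have e := hcyc v hvN (by rw [pow_two]; exact hv2) (fun e => hone (by rw [← hva, e]; group))
    have hva' : Commute v a := by
      rw [e, hch]
      exact ((Commute.refl a).zpow_left _).mul_left (hc.symm.zpow_left _)
    exact hone (by rw [← hva, hva'.eq, mul_inv_cancel_right])
  have hav : a ^ h * v ∈ N := by
    rw [← QuotientGroup.eq_one_iff, QuotientGroup.mk_mul,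
      eq_of_sq_eq_one_of_isCyclic (y := ((a ^ h : G) : G ⧸ N)) (z := (v : G ⧸ N))
        (by rw [← QuotientGroup.mk_pow, hah2, QuotientGroup.mk_one])
        (by rw [← QuotientGroup.mk_pow, pow_two, hv2, QuotientGroup.mk_one])
        (fun e => hu ((QuotientGroup.eq_one_iff _).mp e)) (fun e => hvN ((QuotientGroup.eq_one_iff _).mp e)),
      ← QuotientGroup.mk_mul, hv2, QuotientGroup.mk_one]
  -- the element of `N` inverts `c`, so `n = 1`
  have hm0 : m = 0 := by
    have h1 := hNcomm _ hav _ hcN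
    have h2 : a ^ h * v * c * (a ^ h * v)⁻¹ = c⁻¹ := by
      have hvc : v * c * v⁻¹ = c⁻¹ := by
        rw [hcd, show v * (a⁻¹ * b) * v⁻¹ = (v * a * v⁻¹)⁻¹ * (v * b * v⁻¹) by group, hva, hvb]; group
      have hac : Commute (a ^ h) c⁻¹ := (((Commute.refl a).inv_right.mul_right hc).zpow_left h).inv_right
      calc a ^ h * v * c * (a ^ h * v)⁻¹ = a ^ h * (v * c * v⁻¹) * (a ^ h)⁻¹ := by group
        _ = c⁻¹ := by rw [hvc, hac.eq, mul_inv_cancel_right]
    rw [h1, mul_inv_cancel_right] at h2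
    have h3 : a ^ (-2 : ℤ) * b ^ (2 : ℤ) = 1 := by
      rw [show a ^ (-2:ℤ) = a⁻¹ ^ (2:ℤ) by group, ← (hc.inv_left).mul_zpow, ← hcd, zpow_two]
      nth_rewrite 1 [h2]
      exact inv_mul_cancel c
    have h4 := Int.le_of_dvd two_pos (hind _ _ h3).2
    by_contra hne
    have : (2:ℤ) ^ 2 ≤ 2 ^ (m + 1) := pow_le_pow_right₀ (by norm_num) (by omega)
    omega
  subst hm0
  simp only [hh, pow_zero, zpow_one] at hav
  have ha2 : a * a = 1 := by rw [← pow_two]; simpa using ha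
  have hai : a⁻¹ = a := inv_eq_of_mul_eq_one_right ha2
  have hsq : (a * v) ^ 2 = a * b := by
    rw [pow_two, ← hva, hvi]; group
  refine isDSQ_of_inverted hG N hav (j := a) ?_ ?_ ?_ (by rw [pow_two, ha2]; exact N.one_mem)
  · rw [hsq]
    exact fun e => by
      have h' := (hind 1 1 (by simpa using e)).1
      norm_num at h'
  · rw [show (4:ℕ) = 2 * 2 from rfl, pow_mul, hsq, hc.mul_pow, pow_two a, ha2, show b ^ 2 = 1 by simpa using hbo,
      one_mul]
  · rw [mul_inv_rev, hvi, hai, ← mul_assoc a a v, ha2, one_mul]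

end CfsgLib.MetaTwoFusion
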