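import Mathlib
import Cfsg.Agent.Lib.PGroup.Frattini

/-!
# `C_{2^n} × C_{2^n}`: parity, generators, swapping
-/

namespace CfsgLib.MetaTwoFusion

open Subgroup

/-- The group `C_{2^n} × C_{2^n}`. -/
abbrev Pair (n : ℕ) := Multiplicative (ZMod (2 ^ n)) × Multiplicative (ZMod (2 ^ n))

/-- The four-group of parities. -/
abbrev Four := Multiplicative (ZMod 2) × Multiplicative (ZMod 2)

theorem exists_parity {Q : Type*} [Group Q] {n : ℕ} (hn : 1 ≤ n) (e : Q ≃* Pair n) :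
    ∃ π : Q →* Four, Function.Surjective π ∧ ∀ z : Q, π z = 1 ↔ ∃ y, y ^ 2 = z := by
  have hd : 2 ∣ 2 ^ n := dvd_pow_self 2 (by omega)
  haveI : NeZero (2 ^ n) := ⟨by positivity⟩
  set c : Multiplicative (ZMod (2 ^ n)) →* Multiplicative (ZMod 2) :=
    AddMonoidHom.toMultiplicative (ZMod.castHom hd (ZMod 2)).toAddMonoidHom with hc
  have hcs : Function.Surjective c := fun x => by
    obtain ⟨y, hy⟩ := ZMod.castHom_surjective hd x.toAdd
    exact ⟨Multiplicative.ofAdd y, congrArg Multiplicative.ofAdd hy⟩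
  have hV : ∀ v : Four, v ^ 2 = 1 := by decide
  have hc1 : ∀ x, c x = 1 → ∃ y, y ^ 2 = x := by
    intro x hx
    have h1 : ZMod.castHom hd (ZMod 2) x.toAdd = 0 := congrArg Multiplicative.toAdd hx
    rw [← ZMod.natCast_zmod_val x.toAdd, map_natCast, ZMod.natCast_eq_zero_iff_even] at h1
    obtain ⟨d, hd'⟩ := h1
    refine ⟨Multiplicative.ofAdd ((d : ZMod (2 ^ n))), ?_⟩
    apply Multiplicative.toAdd.injective
    rw [toAdd_pow, toAdd_ofAdd, ← ZMod.natCast_zmod_val x.toAdd, hd', nsmul_eq_mul]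
    push_cast; ring
  refine ⟨(c.prodMap c).comp e.toMonoidHom, (Function.Surjective.prodMap hcs hcs).comp e.surjective,
    fun z => ⟨fun h => ?_, ?_⟩⟩
  · obtain ⟨y₁, h₁⟩ := hc1 (e z).1 (congrArg Prod.fst h)
    obtain ⟨y₂, h₂⟩ := hc1 (e z).2 (congrArg Prod.snd h)
    refine ⟨e.symm (y₁, y₂), e.injective ?_⟩
    rw [map_pow, e.apply_symm_apply]
    exact Prod.ext h₁ h₂
  · rintro ⟨y, rfl⟩
    rw [map_pow]; exact hV _

set_option synthInstance.maxSize 4000 in
set_option maxRecDepth 4000 in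
theorem four_cases : ∀ u v w : Four, u ≠ 1 → v ≠ 1 → u ≠ v →
    (w = 1 ∨ w = u ∨ w = v ∨ w = u * v) := by decide

set_option synthInstance.maxSize 4000 in
theorem four_facts : ∀ u v : Four, u ≠ 1 → v ≠ 1 → u ≠ v →
    u * v ≠ 1 ∧ u * v ≠ v ∧ u * v ≠ u ∧ v * (u * v) = u := by decide

/-- Two elements with independent parities form a basis. -/
theorem exists_basis {Q : Type*} [Group Q] [Finite Q] {n : ℕ} (e : Q ≃* Pair n) (π : Q →* Four)
    (hπ : ∀ z : Q, π z = 1 ↔ ∃ y, y ^ 2 = z) {x y : Q} (hx : π x ≠ 1) (hy : π y ≠ 1) (hxy : π x ≠ π y) :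
    x ^ 2 ^ n = 1 ∧ x * y = y * x ∧ (∀ z : Q, ∃ i j : ℤ, z = x ^ i * y ^ j) ∧
      ∀ i j : ℤ, x ^ i * y ^ j = 1 → (2 ^ n : ℤ) ∣ i ∧ (2 ^ n : ℤ) ∣ j := by
  classical
  haveI : NeZero (2 ^ n) := ⟨by positivity⟩
  have : Fact (Nat.Prime 2) := ⟨Nat.prime_two⟩
  let _ : CommGroup Q := { (inferInstance : Group Q) with
    mul_comm := fun a b => e.injective (by rw [map_mul, map_mul, mul_comm]) }
  have hexp : ∀ z : Q, z ^ 2 ^ n = 1 := fun z => e.injective (by
    rw [map_pow, map_one]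
    refine Prod.ext ?_ ?_ <;>
    · apply Multiplicative.toAdd.injective
      simp [nsmul_eq_mul]
      )
  have hcard : Nat.card Q = 2 ^ n * 2 ^ n := by
    rw [Nat.card_congr e.toEquiv, Nat.card_prod, Nat.card_congr Multiplicative.toAdd, Nat.card_zmod]
  have hQ : IsPGroup 2 Q := fun z => ⟨n, hexp z⟩
  have hgen : closure ({x, y} : Set Q) = ⊤ := by
    refine frattini_nongenerating (eq_top_iff.mpr fun z _ => ?_)
    obtain ⟨w, hw, hwz⟩ : ∃ w ∈ closure ({x, y} : Set Q), π w = π z := by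
      rcases four_cases (π x) (π y) (π z) hx hy hxy with h | h | h | h
      · exact ⟨1, one_mem _, by rw [map_one, h]⟩
      · exact ⟨x, subset_closure (Set.mem_insert _ _), h.symm⟩
      · exact ⟨y, subset_closure (Set.mem_insert_of_mem _ rfl), h.symm⟩
      · exact ⟨x * y, mul_mem (subset_closure (Set.mem_insert _ _))
          (subset_closure (Set.mem_insert_of_mem _ rfl)), by rw [map_mul, h]⟩
    obtain ⟨u, hu⟩ := (hπ (w⁻¹ * z)).mp (by rw [map_mul, map_inv, hwz, inv_mul_cancel])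
    rw [show z = w * u ^ 2 by rw [hu, mul_inv_cancel_left]]
    exact mul_mem (mem_sup_left hw) (mem_sup_right (CfsgLib.PGroup.pow_mem_frattini hQ u))
  have hsurj : ∀ z : Q, ∃ i j : ℤ, z = x ^ i * y ^ j := fun z => by
    obtain ⟨i, j, h⟩ := mem_closure_pair.mp (hgen.ge (mem_top z))
    exact ⟨i, j, h.symm⟩
  refine ⟨hexp x, mul_comm x y, hsurj, fun i j hij => ?_⟩
  let f : Pair n → Q := fun t => x ^ t.1.toAdd.val * y ^ t.2.toAdd.val
  have hred : ∀ (z : Q) (k : ℤ), z ^ k = z ^ ((k : ZMod (2 ^ n))).val := fun z k => by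
    rw [← zpow_natCast z, ZMod.val_intCast, ← orderOf_dvd_sub_iff_zpow_eq_zpow]
    refine Int.dvd_trans (Int.natCast_dvd_natCast.mpr (orderOf_dvd_of_pow_eq_one (hexp z))) ?_
    exact Int.dvd_self_sub_emod
  have hf : Function.Surjective f := fun z => by
    obtain ⟨i, j, rfl⟩ := hsurj z
    exact ⟨(Multiplicative.ofAdd (i : ZMod (2 ^ n)), Multiplicative.ofAdd (j : ZMod (2 ^ n))), by
      simp only [f, toAdd_ofAdd]; rw [← hred, ← hred]⟩
  have hbij : Function.Bijective f :=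
    (Nat.bijective_iff_surjective_and_card _).mpr ⟨hf, (Nat.card_congr e.toEquiv).symm⟩
  have h1 : f (Multiplicative.ofAdd (i : ZMod (2 ^ n)), Multiplicative.ofAdd (j : ZMod (2 ^ n))) = f (1, 1) := by
    simp only [f, toAdd_ofAdd, toAdd_one, ZMod.val_zero, pow_zero, mul_one]
    rw [← hred, ← hred, hij]
  have h2 := hbij.1 h1
  have e1 := congrArg (fun t : Pair n => t.1.toAdd) h2
  have e2 := congrArg (fun t : Pair n => t.2.toAdd) h2
  simp only [toAdd_ofAdd, toAdd_one] at e1 e2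
  exact ⟨by exact_mod_cast (ZMod.intCast_zmod_eq_zero_iff_dvd i (2 ^ n)).mp e1,
    by exact_mod_cast (ZMod.intCast_zmod_eq_zero_iff_dvd j (2 ^ n)).mp e2⟩

end CfsgLib.MetaTwoFusion
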