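import Cfsg.Agent.Lib.Fusion.Stabilizer
import Cfsg.Agent.Lib.Fusion.Normal
import Cfsg.Agent.Lib.Fusion.DihedralTop
import Cfsg.Agent.Lib.MetaTwoAut.Basic
import Cfsg.Agent.Lib.H82.AutFrattini
import Cfsg.Agent.Lib.MetaTwoFusion.Group
import Cfsg.Agent.Lib.MetaTwoFusion.Pair

/-!
# Strongly closed metacyclic 2-subgroups lie in all centric radical subgroups
-/

namespace CfsgLib.MetaTwoFusion

open Cfsg Cfsg.FusionSystem CfsgLib.Fusion
open scoped Pointwise
open CfsgLib.TwoGroups85 (IsDSQ)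

theorem isMetacyclic_subgroup {G : Type*} [Group G] (hm : Cfsg.IsMetacyclic G) (H : Subgroup G) :
    Cfsg.IsMetacyclic H := by
  obtain ⟨N, hN, hc, hq⟩ := hm
  refine ⟨N.subgroupOf H, hN.subgroupOf H, ?_, ?_⟩
  · have h1 : IsCyclic (N ⊓ H : Subgroup G) := Subgroup.isCyclic_of_le inf_le_left
    exact (((Subgroup.subgroupOfEquivOfLe (inf_le_right : N ⊓ H ≤ H)).isCyclic).mpr h1) |>
      (fun h => by rwa [Subgroup.inf_subgroupOf_right] at h)
  · exact isCyclic_of_injective (QuotientGroup.map (N.subgroupOf H) N H.subtype (fun z hz => hz))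
      ((injective_iff_map_eq_one _).mpr fun z hz => by
        obtain ⟨z, rfl⟩ := QuotientGroup.mk'_surjective _ z
        exact (QuotientGroup.eq_one_iff z).mpr ((QuotientGroup.eq_one_iff (H.subtype z)).mp hz))

theorem isMetacyclic_of_le {G : Type*} [Group G] {H K : Subgroup G} (h : H ≤ K) (hm : Cfsg.IsMetacyclic K) :
    Cfsg.IsMetacyclic H := by
  obtain ⟨N, hN, hc, hq⟩ := isMetacyclic_subgroup hm (H.subgroupOf K)
  have e := Subgroup.subgroupOfEquivOfLe h
  have := hN.map e.toMonoidHom e.surjective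
  exact ⟨N.map e.toMonoidHom, this, isCyclic_of_surjective _ (e.subgroupMap N).surjective,
    isCyclic_of_surjective _ (QuotientGroup.congr N (N.map e.toMonoidHom) e rfl).surjective⟩

variable {Ω : Type*} [Group Ω] {S : Subgroup Ω} {F : FusionSystem S} {P R : Subgroup Ω}

theorem le_of_centric_radical_metacyclic [Finite S] (hS : IsPGroup 2 S) (hP : F.StronglyClosed P)
    (hm : Cfsg.IsMetacyclic P) (hnot : ¬ IsDSQ P) (hc : F.IsCentric R) (hr : F.IsRadical 2 R) : P ≤ R := by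
  classical
  have : Fact (Nat.Prime 2) := ⟨Nat.prime_two⟩
  have := finite_of_le hP.1
  have := finite_of_le hc.1
  have hSn := StronglyClosed.le_normalizer hP
  set Q := P ⊓ R with hQdef
  have hQR : Q ≤ R := inf_le_right
  have := finite_of_le (hQR.trans hc.1)
  have hQp : IsPGroup 2 Q := hS.to_le (hQR.trans hc.1)
  have hQm : Cfsg.IsMetacyclic Q := isMetacyclic_of_le inf_le_left hm
  have hinvQ : ∀ a ∈ F.autGroup R, ∀ x : R, (x : Ω) ∈ Q → ((a x : R) : Ω) ∈ Q :=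
    fun a ha x hx => ⟨StronglyClosed.aut_mem hP hc.1 ha x hx.1, (a x).2⟩
  let res : F.autGroup R → MulAut Q := fun a =>
    { toFun := fun z => ⟨((a : MulAut R) ⟨z, hQR z.2⟩ : R), hinvQ a a.2 _ z.2⟩
      invFun := fun z => ⟨(((a : MulAut R)⁻¹) ⟨z, hQR z.2⟩ : R),
        hinvQ _ (Subgroup.inv_mem _ a.2) _ z.2⟩
      left_inv := fun z => Subtype.ext (congrArg (fun t : R => (t : Ω))
        (MulAut.inv_apply_self R (a : MulAut R) ⟨z, hQR z.2⟩))
      right_inv := fun z => Subtype.ext (congrArg (fun t : R => (t : Ω))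
        (MulAut.apply_inv_self R (a : MulAut R) ⟨z, hQR z.2⟩))
      map_mul' := fun z w => Subtype.ext (congrArg (fun t : R => (t : Ω))
        (map_mul (a : MulAut R) ⟨z, hQR z.2⟩ ⟨w, hQR w.2⟩)) }
  let ρ : F.autGroup R →* MulAut Q := MonoidHom.mk' res fun a b => MulEquiv.ext fun z => rfl
  have hρ : ∀ (a : F.autGroup R) (z : Q), ((ρ a z : Q) : Ω) = (((a : MulAut R) ⟨z, hQR z.2⟩ : R) : Ω) :=
    fun _ _ => rfl
  -- an element of `P` inducing on `P ⊓ R` a member of a normal 2-subgroup of automorphisms lies in `R`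
  have key : ∀ B : Subgroup (MulAut Q), B.Normal → IsPGroup 2 B → ∀ g ∈ P,
      g ∈ Subgroup.normalizer (R : Set Ω) → ∀ β ∈ B, (∀ z : Q, ((β z : Q) : Ω) = g * (z : Ω) * g⁻¹) → g ∈ R := by
    intro B hB hBp g hgP hgN β hβ hβe
    let L : ℕ → Subgroup R := fun i => if i = 0 then Q.subgroupOf R else ⊤
    have hinv : ∀ i ≤ 1, ∀ a ∈ F.autGroup R, ∀ x ∈ L i, a x ∈ L i := by
      intro i _ a ha x hx
      by_cases hi : i = 0
      · simp only [L, hi, if_true] at hx ⊢
        exact hinvQ a ha x hx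
      · simp [L, hi]
    set A : Subgroup (MulAut R) :=
      seriesStabilizer F R 1 L hinv ⊓ (B.comap ρ).map (F.autGroup R).subtype with hA
    have hAle : A ≤ F.autGroup R := fun a ha => ha.1.1
    have hAn : ∀ a ∈ A, ∀ b ∈ F.autGroup R, b * a * b⁻¹ ∈ A := by
      rintro a ⟨ha, ⟨a', ha', rfl⟩⟩ b hb
      refine ⟨seriesStabilizer_conj_mem ha hb, ⟨⟨b, hb⟩ * a' * ⟨b, hb⟩⁻¹, ?_, rfl⟩⟩
      rw [SetLike.mem_coe, Subgroup.mem_comap, map_mul, map_mul, map_inv]
      exact hB.conj_mem _ ha' _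
    have hAp : IsPGroup 2 A := by
      rintro ⟨a, ha, ⟨a', ha', rfl⟩⟩
      obtain ⟨k, hk⟩ := hBp ⟨ρ a', ha'⟩
      obtain ⟨l, hl⟩ := exists_pow_eq_one_of_stabilizes (hS.to_le hc.1) L (n := 1)
        (fun i hi => by simp [L]) (by simp [L]) (α := (a' : MulAut R))
        ⟨k, fun x hx => by
          simp only [L, if_true] at hx
          have h1 : (ρ a') ^ 2 ^ k = 1 := congrArg Subtype.val hk
          rw [← map_pow] at h1
          have h2 := hρ (a' ^ 2 ^ k) ⟨x, hx⟩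
          rw [h1] at h2
          exact Subtype.ext (by simpa using h2.symm)⟩
        (fun i hi x hx => ha.2 i hi x hx)
      exact ⟨l, Subtype.ext hl⟩
    obtain ⟨a, ha, hae⟩ := exists_autInducedBy (K := S) (hP.1 hgP) hgN
    have haF : a ∈ F.autGroup R := autInducedBy_le_autGroup hc.1 ha
    refine (mem_inn_iff_mem hc.1 (IsCentric.centralizerIn_le' hc) (hP.1 hgP) hae).mp
      (le_inn_of_radical hr hAle hAp hAn ⟨⟨haF, fun i hi x _ => ?_⟩, ⟨⟨a, haF⟩, ?_, rfl⟩⟩)
    · obtain rfl : i = 0 := by omega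
      simp only [L, if_true, Subgroup.mem_subgroupOf]
      refine ⟨?_, (x⁻¹ * a x).2⟩
      rw [Subgroup.coe_mul, Subgroup.coe_inv, hae, show (x : Ω)⁻¹ * (g * x * g⁻¹) = ((x : Ω)⁻¹ * g * x) * g⁻¹ by group]
      have hxn := hSn (S.inv_mem (hc.1 x.2))
      have := (Subgroup.mem_normalizer_iff.mp hxn g).mp hgP
      rw [inv_inv] at this
      exact P.mul_mem this (P.inv_mem hgP)
    · show ρ ⟨a, haF⟩ ∈ B
      rw [show ρ ⟨a, haF⟩ = β from MulEquiv.ext fun z => Subtype.ext ((hae ⟨z, hQR z.2⟩).trans (hβe z).symm)]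
      exact hβ
  -- conjugation by an element of `P` normalizing `R`
  have hconj : ∀ g ∈ P, g ∈ Subgroup.normalizer (R : Set Ω) →
      ∃ β : MulAut Q, ∀ z : Q, ((β z : Q) : Ω) = g * (z : Ω) * g⁻¹ := by
    intro g hgP hgN
    obtain ⟨a, ha, hae⟩ := exists_autInducedBy (K := S) (hP.1 hgP) hgN
    exact ⟨ρ ⟨a, autInducedBy_le_autGroup hc.1 ha⟩, fun z => hae ⟨z, hQR z.2⟩⟩
  by_contra hPR
  obtain ⟨g, hgP, hgN, hgR⟩ : ∃ g ∈ P, g ∈ Subgroup.normalizer (R : Set Ω) ∧ g ∉ R := by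
    have hlt : R < R ⊔ P := lt_of_le_of_ne le_sup_left fun he => hPR (by rw [he]; exact le_sup_right)
    obtain ⟨g, hg, hgR⟩ := SetLike.exists_of_lt (lt_normalizerIn hS (sup_le hc.1 hP.1) hlt)
    have hg' : g ∈ ((R : Set Ω) * (P : Set Ω) : Set Ω) := by
      have he := Subgroup.coe_mul_of_left_le_normalizer_right R P (hc.1.trans hSn)
      exact (Set.ext_iff.mp he g).mp hg.1
    obtain ⟨x, hx, q, hq, rfl⟩ := hg'
    refine ⟨q, hq, ?_, fun h => hgR (R.mul_mem hx h)⟩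
    have := Subgroup.mul_mem _ (Subgroup.inv_mem _ (Subgroup.le_normalizer hx)) hg.2
    rwa [inv_mul_cancel_left] at this
  obtain ⟨β, hβ⟩ := hconj g hgP hgN
  by_cases hAut : IsPGroup 2 (MulAut Q)
  · exact hgR (key ⊤ inferInstance (hAut.to_subgroup ⊤) g hgP hgN β trivial hβ)
  have hPp : IsPGroup 2 P := hS.to_le hP.1
  rcases CfsgLib.MetaTwoAut.main hQp hQm hAut with ⟨⟨e⟩⟩ | ⟨n, ⟨e⟩⟩
  · exact hnot (isDSQ_of_quaternion hPp hm (Q := Q.subgroupOf P)
      ((Subgroup.subgroupOfEquivOfLe inf_le_left).trans e))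
  rcases Nat.eq_zero_or_pos n with rfl | hn
  · have : Subsingleton (Multiplicative (ZMod (2 ^ 0))) := inferInstanceAs (Subsingleton (ZMod 1))
    refine hAut fun α => ⟨0, ?_⟩
    rw [pow_zero, pow_one]
    exact MulEquiv.ext fun z => e.injective (Subsingleton.elim _ _)
  obtain ⟨π, hπs, hπ⟩ := exists_parity hn e
  have hπ' : ∀ (δ : MulAut Q) (z w : Q), π z = π w → π (δ z) = π (δ w) := by
    intro δ z w h
    obtain ⟨y, hy⟩ := (hπ (z⁻¹ * w)).mp (by rw [map_mul, map_inv, h, inv_mul_cancel])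
    rw [show w = z * y ^ 2 by rw [hy, mul_inv_cancel_left], map_mul δ, map_mul π, map_pow δ,
      (hπ (δ y ^ 2)).mpr ⟨δ y, rfl⟩, mul_one]
  let B : Subgroup (MulAut Q) :=
    { carrier := {δ | ∀ z, π (δ z) = π z}
      one_mem' := fun z => rfl
      mul_mem' := fun {δ ε} hδ hε z => (hδ _).trans (hε z)
      inv_mem' := fun {δ} hδ z => by
        have := hδ (δ⁻¹ z)
        rw [MulAut.apply_inv_self] at this
        exact this.symm }
  have hBn : B.Normal := ⟨fun δ hδ ε z => by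
    show π (ε (δ (ε⁻¹ z))) = π z
    rw [hπ' ε _ _ (hδ (ε⁻¹ z)), MulAut.apply_inv_self]⟩
  have hBp : IsPGroup 2 B := by
    obtain ⟨k, hk⟩ := IsPGroup.iff_card.mp hQp
    obtain ⟨r, -, hr⟩ := (Nat.dvd_prime_pow Nat.prime_two).mp (hk ▸ Subgroup.index_dvd_card (frattini Q))
    obtain ⟨m, -, hm'⟩ := (Nat.dvd_prime_pow Nat.prime_two).mp
      (CfsgLib.AutFrattini82.card_aut_trivial_dvd hk hr B fun δ hδ z => by
        obtain ⟨y, hy⟩ := (hπ (δ z * z⁻¹)).mp (by rw [map_mul, map_inv, hδ z, mul_inv_cancel])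
        rw [← hy]
        exact CfsgLib.PGroup.pow_mem_frattini hQp y)
    exact IsPGroup.of_card hm'
  obtain ⟨x, hxB⟩ : ∃ x, π (β x) ≠ π x := by
    by_contra h
    push Not at h
    exact hgR (key B hBn hBp g hgP hgN β h hβ)
  have hx1 : π x ≠ 1 := fun h => hxB (by rw [hπ' β x 1 (by rw [h, map_one]), map_one, map_one, h])
  set y := β x with hy
  have hy1 : π y ≠ 1 := fun h => hx1 (by
    have := hπ' β⁻¹ y 1 (by rw [h, map_one])
    rwa [hy, MulAut.inv_apply_self, map_one, map_one] at this)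
  obtain ⟨hxn, hxy, hspan, hind⟩ := exists_basis e π hπ hx1 hy1 (Ne.symm hxB)
  -- `β` exchanges the two parities
  have hby : π (β y) = π x := by
    have h1 : π (β y) ≠ π y := fun h => hxB (by
      have := hπ' β⁻¹ (β y) y h
      rwa [MulAut.inv_apply_self, hy, MulAut.inv_apply_self] at this)
    have h2 : π (β y) ≠ 1 := fun h => hy1 (by
      have := hπ' β⁻¹ (β y) 1 (by rw [h, map_one])
      rwa [MulAut.inv_apply_self, map_one, map_one] at this)
    rcases four_cases (π x) (π y) (π (β y)) hx1 hy1 (Ne.symm hxB) with h | h | h | h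
    · exact absurd h h2
    · exact h
    · exact absurd h h1
    exfalso
    obtain ⟨f1, f2, f3, f4⟩ := four_facts (π x) (π y) hx1 hy1 (Ne.symm hxB)
    have h3 : β ^ 3 ∈ B := fun z => by
      obtain ⟨i, j, rfl⟩ := hspan z
      have e1 : π ((β ^ 3) x) = π x := by
        show π (β (β (β x))) = π x
        rw [← hy, hπ' β (β y) (x * y) (by rw [h, map_mul]), map_mul β, map_mul π, ← hy, h]
        exact f4
      have e2 : π ((β ^ 3) y) = π y := by
        rw [hy, ← MulAut.mul_apply, ← pow_succ, pow_succ', MulAut.mul_apply]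
        exact hπ' β _ _ e1
      rw [map_mul (β ^ 3), map_zpow (β ^ 3), map_zpow (β ^ 3), map_mul π, map_zpow π, map_zpow π, e1, e2,
        ← map_zpow π, ← map_zpow π, ← map_mul π]
    obtain ⟨k, hk⟩ := hS ⟨g, hP.1 hgP⟩
    have hk' : β ^ 2 ^ k = 1 := MulEquiv.ext fun z => Subtype.ext (by
      have hpow : ∀ (m : ℕ) (z : Q), (((β ^ m) z : Q) : Ω) = g ^ m * (z : Ω) * (g ^ m)⁻¹ := by
        intro m
        induction m with
        | zero => intro z; simp
        | succ m ih => intro z; rw [pow_succ, MulAut.mul_apply, ih, hβ, pow_succ]; group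
      rw [hpow, show g ^ 2 ^ k = 1 from by simpa using congrArg Subtype.val hk, inv_one, one_mul, mul_one]
      rfl)
    refine hxB ?_
    have hb : β ∈ B := by
      have h4 : Nat.Coprime 3 (2 ^ k) := (by norm_num : Nat.Coprime 3 2).pow_right k
      obtain ⟨u, v, huv⟩ := (Nat.Coprime.cast (R := ℤ) h4)
      rw [← zpow_one β, ← huv, zpow_add, mul_comm u, mul_comm v, zpow_mul, zpow_mul, zpow_natCast, zpow_natCast,
        hk', one_zpow, mul_one]
      exact Subgroup.zpow_mem _ h3 u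
    exact hb x
  have hg2 : g ^ 2 ∈ Q := by
    refine ⟨P.pow_mem hgP 2, key B hBn hBp _ (P.pow_mem hgP 2) (Subgroup.pow_mem _ hgN 2) (β * β)
      (fun z => ?_) fun z => by rw [MulAut.mul_apply, hβ, hβ, pow_two]; group⟩
    obtain ⟨i, j, rfl⟩ := hspan z
    rw [map_mul (β * β), map_zpow (β * β), map_zpow (β * β), map_mul π, map_zpow π, map_zpow π,
      MulAut.mul_apply, MulAut.mul_apply, ← hy, hby, hπ' β (β y) x hby, ← hy, ← map_zpow π, ← map_zpow π,
      ← map_mul π]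
  set a : P := ⟨x, x.2.1⟩ with ha
  set w : P := ⟨g, hgP⟩ with hw
  have hwa : ((w * a * w⁻¹ : P) : Ω) = (y : Ω) := by rw [hy, hβ]; rfl
  refine hnot (isDSQ_of_swap hPp hm hn (a := a) (x := w) (Subtype.ext ?_) (Subtype.ext ?_)
    (fun i j h => hind i j (Subtype.ext ?_)) ?_)
  · rw [Subgroup.coe_pow, Subgroup.coe_one]
    exact (congrArg Subtype.val hxn : _)
  · show (a : Ω) * ((w * a * w⁻¹ : P) : Ω) = ((w * a * w⁻¹ : P) : Ω) * (a : Ω)
    rw [hwa]
    exact congrArg Subtype.val hxy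
  · have h' := congrArg Subtype.val h
    rw [Subgroup.coe_mul, Subgroup.coe_zpow, Subgroup.coe_zpow, hwa] at h'
    rw [Subgroup.coe_mul, Subgroup.coe_zpow, Subgroup.coe_zpow]
    exact h'
  · obtain ⟨i, j, h⟩ := hspan ⟨g ^ 2, hg2⟩
    refine ⟨i, j, Subtype.ext ?_⟩
    rw [Subgroup.coe_mul, Subgroup.coe_zpow, Subgroup.coe_zpow, hwa, Subgroup.coe_pow]
    exact ((congrArg Subtype.val h : _) : g ^ 2 = _).trans (by rw [Subgroup.coe_mul, Subgroup.coe_zpow, Subgroup.coe_zpow])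

/-- The predicates used by the statements exclude dihedral, semidihedral and quaternion groups. -/
theorem not_isDSQ {G : Type*} [Group G] (hd : ¬ ∃ m : ℕ, Nonempty (G ≃* DihedralGroup m))
    (hq : ¬ ∃ m : ℕ, Nonempty (G ≃* QuaternionGroup m)) (hsd : ¬ Cfsg.IsQuasiDihedral G) : ¬ IsDSQ G := by
  rintro (⟨k, h⟩ | ⟨k, hc, a, b, ha, hb, hab⟩ | ⟨k, h⟩)
  · exact hd ⟨_, h⟩
  · exact hsd ⟨k + 3, by omega, hc, a, b, ha, hb, by rw [show k + 3 - 1 = k + 2 by omega]; exact hab⟩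
  · exact hq ⟨_, h⟩

theorem autGroup_le_inn_of_not_small [Finite S] (hS : IsPGroup 2 S) (hF : F.IsSaturated 2)
    (hm : Cfsg.IsMetacyclic S) (hQ : ¬ Nonempty (S ≃* QuaternionGroup 2))
    (hh : ∀ n : ℕ, ¬ Nonempty (S ≃* Pair n)) : F.autGroup S ≤ Inn S := by
  have : Fact (Nat.Prime 2) := ⟨Nat.prime_two⟩
  obtain ⟨T, hc, hA, -⟩ := hF S le_rfl
  obtain ⟨φ, hφ, hr⟩ := hc
  have hTS : T = S := by
    rw [← hr]
    exact range_eq_of_card_le hφ le_rfl (apply_mem_S hφ) le_rfl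
  subst hTS
  refine (autGroup_top_eq_inn hA ?_).le
  by_contra h
  rcases CfsgLib.MetaTwoAut.main hS hm h with h' | ⟨n, h'⟩
  · exact hQ h'
  · exact hh n h'

end CfsgLib.MetaTwoFusion
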