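import Cfsg.Agent.Lib.MetaTwoFusion.Witness
import Cfsg.Agent.Lib.MetaTwoFusion.Fusion
import Cfsg.Agent.Lib.OddOrder41.MetacyclicAction

/-!
# Ingredients for the criterion of supersoluble type of metacyclic p-groups
-/

namespace CfsgLib.MetaTwoFusion

open Cfsg
open scoped commutatorElement

/-- Elements of order dividing `p` in a metacyclic group number at most `p ^ 2` when they form the group. -/
theorem card_le_sq_of_exponent {G : Type*} [Group G] [Finite G] {p : ℕ} (hp : 0 < p)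
    (hm : Cfsg.IsMetacyclic G) (hexp : ∀ x : G, x ^ p = 1) : Nat.card G ≤ p ^ 2 := by
  obtain ⟨N, hN, hc, hq⟩ := hm
  have key : ∀ (A : Type _) [Group A] [Finite A] [IsCyclic A], (∀ a : A, a ^ p = 1) → Nat.card A ≤ p :=
    fun A _ _ _ h => by
      obtain ⟨g, hg⟩ := IsCyclic.exists_ofOrder_eq_natCard (α := A)
      rw [← hg]
      exact orderOf_le_of_pow_eq_one hp (h g)
  rw [Subgroup.card_eq_card_quotient_mul_card_subgroup N, pow_two]
  refine Nat.mul_le_mul (key _ fun a => ?_) (key _ fun a => Subtype.ext (hexp a))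
  obtain ⟨x, rfl⟩ := QuotientGroup.mk'_surjective N a
  rw [← map_pow, hexp, map_one]

/-- A nontrivial commutative `p`-group has a subgroup of order `p`. -/
theorem exists_card_prime {A : Type*} [CommGroup A] [Finite A] {p : ℕ} [hp : Fact p.Prime] (hA : IsPGroup p A)
    (hA' : Nontrivial A) : ∃ K : Subgroup A, Nat.card K = p ∧ ∀ a ∈ K, a ^ p = 1 := by
  obtain ⟨k, hk0, hk⟩ := hA.nontrivial_iff_card.mp hA'
  obtain ⟨g, hg⟩ := exists_prime_orderOf_dvd_card' p (hk ▸ dvd_pow_self p (by omega) : p ∣ Nat.card A)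
  refine ⟨Subgroup.zpowers g, by rw [Nat.card_zpowers, hg], ?_⟩
  rintro a ⟨i, rfl⟩
  rw [← zpow_natCast, ← zpow_mul, mul_comm, zpow_mul, zpow_natCast, ← hg, pow_orderOf_eq_one, one_zpow]

/-- A metacyclic `p`-group is not of the form `C_{p^n}² × H` with `H` nontrivial. -/
theorem subsingleton_of_equiv {G : Type*} [Group G] [Finite G] {p : ℕ} [hp : Fact p.Prime] (hG : IsPGroup p G)
    (hm : Cfsg.IsMetacyclic G) {n : ℕ} (hn : 0 < n) {H : Type*} [CommGroup H]
    (e : G ≃* (Multiplicative (ZMod (p ^ n)) × Multiplicative (ZMod (p ^ n))) × H) : Subsingleton H := by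
  classical
  by_contra hH
  rw [not_subsingleton_iff_nontrivial] at hH
  let _ : CommGroup G := { (inferInstance : Group G) with
    mul_comm := fun a b => e.injective (by rw [map_mul, map_mul, mul_comm]) }
  haveI : NeZero (p ^ n) := ⟨(pow_pos hp.out.pos n).ne'⟩
  set C := Multiplicative (ZMod (p ^ n))
  have hfH : Finite H := Finite.of_surjective (fun g => (e g).2) fun h => ⟨e.symm (1, h), by simp⟩
  have hHp : IsPGroup p H := hG.of_surjective ((MonoidHom.snd _ H).comp e.toMonoidHom)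
    fun h => ⟨e.symm (1, h), by simp⟩
  have hCp : IsPGroup p C := IsPGroup.of_card (n := n) (by
    rw [Nat.card_congr Multiplicative.toAdd, Nat.card_zmod])
  have hCn : Nontrivial C := Finite.one_lt_card_iff_nontrivial.mp (by
    rw [Nat.card_congr Multiplicative.toAdd, Nat.card_zmod]; exact Nat.one_lt_pow hn.ne' hp.out.one_lt)
  obtain ⟨K, hK, hKe⟩ := exists_card_prime hCp hCn
  obtain ⟨L, hL, hLe⟩ := exists_card_prime hHp hH
  let T : Subgroup G := (powMonoidHom p).ker
  have hT : Nat.card T ≤ p ^ 2 :=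
    card_le_sq_of_exponent hp.out.pos (isMetacyclic_subgroup hm T) fun t => Subtype.ext t.2
  have hle : ((K.prod K).prod L).map e.symm.toMonoidHom ≤ T := by
    rintro _ ⟨⟨⟨a, b⟩, c⟩, ⟨⟨ha, hb⟩, hc⟩, rfl⟩
    show (e.symm ((a, b), c)) ^ p = 1
    rw [← map_pow, ← map_one e.symm, show ((a, b), c) ^ p = (1 : (C × C) × H) from
      Prod.ext (Prod.ext (hKe a ha) (hKe b hb)) (hLe c hc)]
  have h3 := (Subgroup.card_le_of_le hle).trans hT
  rw [Subgroup.card_map_of_injective e.symm.injective,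
    Nat.card_congr ((K.prod K).prodEquiv L).toEquiv, Nat.card_prod, Nat.card_congr (K.prodEquiv K).toEquiv,
    Nat.card_prod, hK, hL, pow_two] at h3
  have hp2 := hp.out.two_le
  have : p * p * 2 ≤ p * p * p := Nat.mul_le_mul_left _ hp2
  have : 0 < p * p := Nat.mul_pos hp.out.pos hp.out.pos
  omega

/-- For odd `p`, groups of automorphisms of order prime to `p` of a nonabelian metacyclic `p`-group. -/
theorem aut_comm_exponent {R : Type*} [Group R] [Finite R] {p : ℕ} [hp : Fact p.Prime] (hp2 : p ≠ 2)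
    (hR : IsPGroup p R) (hm : Cfsg.IsMetacyclic R) (hna : ¬ IsMulCommutative R)
    (H : Subgroup (MulAut R)) (hH : (Nat.card H).Coprime p) :
    IsMulCommutative H ∧ ∀ h ∈ H, h ^ (p - 1) = 1 := by
  have hfA : Finite (MulAut R) :=
    Finite.of_injective (fun f => (f : R → R)) fun f g h => MulEquiv.ext (congrFun h)
  let G := R ⋊[H.subtype] H
  have : Finite G := Finite.of_equiv _ SemidirectProduct.equivProd.symm
  let ι : R →* G := SemidirectProduct.inl
  let κ : H →* G := SemidirectProduct.inr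
  have hι : Function.Injective ι := SemidirectProduct.inl_injective
  let er : R ≃* ι.range := ι.ofInjective hι
  have hconj : ∀ (h : H) (r : R), κ h * ι r * (κ h)⁻¹ = ι ((h : MulAut R) r) := fun h r => by
    rw [← map_inv]
    exact (SemidirectProduct.inl_aut h r).symm
  have hA : κ.range ≤ Subgroup.normalizer (ι.range : Set G) := by
    rintro _ ⟨h, rfl⟩
    refine Subgroup.mem_normalizer_fintype ?_
    rintro _ ⟨r, rfl⟩
    exact ⟨_, (hconj h r).symm⟩
  have hAc : (Nat.card κ.range).Coprime p := by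
    rwa [← Nat.card_congr (κ.ofInjective SemidirectProduct.inr_injective).toEquiv]
  have hm' : Cfsg.IsMetacyclic ι.range := by
    obtain ⟨N, hN, hc, hq⟩ := hm
    have := hN.map er.toMonoidHom er.surjective
    exact ⟨N.map er.toMonoidHom, this, isCyclic_of_surjective _ (er.subgroupMap N).surjective,
      isCyclic_of_surjective _ (QuotientGroup.congr N (N.map er.toMonoidHom) er rfl).surjective⟩
  have hna' : ¬ IsMulCommutative ι.range := fun h => hna ⟨⟨fun a b =>
    er.injective (by rw [map_mul, map_mul]; exact h.is_comm.comm _ _)⟩⟩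
  by_cases hcen : κ.range ≤ Subgroup.centralizer (ι.range : Set G)
  · have htriv : ∀ h : H, h = 1 := fun h => Subtype.ext (MulEquiv.ext fun r => by
      have h1 := Subgroup.mem_centralizer_iff.mp (hcen ⟨h, rfl⟩) (ι r) ⟨r, rfl⟩
      have h2 := hconj h r
      rw [← h1, mul_inv_cancel_right] at h2
      exact (hι h2).symm)
    exact ⟨⟨⟨fun a b => by rw [htriv a, htriv b]⟩⟩, fun h hh => by
      rw [show h = 1 from congrArg Subtype.val (htriv ⟨h, hh⟩), one_pow]⟩
  obtain ⟨-, hgen, -, hrest⟩ := CfsgLib.OddOrder41.metacyclic_coprime_action p hp2 ι.range κ.range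
    (hR.of_equiv er) hm' hA hAc
  obtain ⟨-, hKc, -, -, -⟩ := hrest hna' hcen
  set K := ⁅ι.range, κ.range⁆ with hKdef
  have hKR : K ≤ ι.range := Subgroup.commutator_le.mpr (by
    rintro _ ⟨r, rfl⟩ _ ⟨h, rfl⟩
    rw [commutatorElement_def, mul_assoc, mul_assoc, ← mul_assoc (κ h), ← map_inv ι r, hconj, ← map_mul]
    exact ⟨_, rfl⟩)
  obtain ⟨u, hu⟩ := (Subgroup.isCyclic_iff_exists_zpowers_eq_top K).mp hKc
  obtain ⟨u₀, hu₀⟩ := hKR (hu ▸ Subgroup.mem_zpowers u : u ∈ K)
  -- every element of `H` is determined by its value on `u₀`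
  have hexu : ∀ h : H, ∃ k : ℤ, (h : MulAut R) u₀ = u₀ ^ k := fun h => by
    have hle : K.map (MulAut.conj (κ h)).toMonoidHom ≤ K := by
      rw [hKdef, Subgroup.map_commutator]
      refine Subgroup.commutator_mono ?_ ?_
      · rintro _ ⟨_, ⟨r, rfl⟩, rfl⟩
        exact ⟨_, (hconj h r).symm⟩
      · rintro _ ⟨_, ⟨a, rfl⟩, rfl⟩
        exact ⟨h * a * h⁻¹, by rw [map_mul, map_mul, map_inv]; rfl⟩
    have h1 : κ h * u * (κ h)⁻¹ ∈ K := hle ⟨u, hu ▸ Subgroup.mem_zpowers u, rfl⟩
    obtain ⟨k, hk⟩ := Subgroup.mem_zpowers_iff.mp (hu.ge h1)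
    refine ⟨k, hι ?_⟩
    rw [← hconj, map_zpow, hu₀, hk]
  have hdet : ∀ a b : H, (a : MulAut R) u₀ = (b : MulAut R) u₀ → a = b := fun a b hab => by
    suffices hle : ι.range ≤
        (((a : MulAut R).toMonoidHom.eqLocus (b : MulAut R).toMonoidHom)).map ι by
      refine Subtype.ext (MulEquiv.ext fun r => ?_)
      obtain ⟨r', hr', he⟩ := hle ⟨r, rfl⟩
      rw [← (hι he)]
      exact hr'
    rw [← hgen]
    refine sup_le ?_ ?_
    · rw [← hu, Subgroup.zpowers_le]
      exact ⟨u₀, hab, hu₀⟩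
    · rintro _ ⟨⟨r, rfl⟩, hr⟩
      have hfix : ∀ h : H, (h : MulAut R) r = r := fun h => hι (by
        rw [← hconj, Subgroup.mem_centralizer_iff.mp hr (κ h) ⟨h, rfl⟩, mul_inv_cancel_right])
      exact ⟨r, (hfix a).trans (hfix b).symm, rfl⟩
  refine ⟨⟨⟨fun a b => hdet _ _ ?_⟩⟩, fun h hh => ?_⟩
  · obtain ⟨k, hk⟩ := hexu a
    obtain ⟨l, hl⟩ := hexu b
    show (a : MulAut R) ((b : MulAut R) u₀) = (b : MulAut R) ((a : MulAut R) u₀)
    rw [hl, map_zpow, hk, map_zpow, hl, ← zpow_mul, ← zpow_mul, mul_comm]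
  obtain ⟨e, he⟩ := hR u₀
  rcases eq_or_ne u₀ 1 with rfl | hu1
  · exact congrArg Subtype.val (hdet ((⟨h, hh⟩ : H) ^ (p - 1)) 1 (by simp))
  obtain ⟨k, hk⟩ := hexu ⟨h, hh⟩
  obtain ⟨j, hj⟩ : ∃ j : ℕ, h u₀ = u₀ ^ j := by
    have hmem : h u₀ ∈ Submonoid.powers u₀ :=
      (IsOfFinOrder.mem_powers_iff_mem_zpowers (isOfFinOrder_of_finite u₀)).mpr ⟨k, hk.symm⟩
    exact ⟨hmem.choose, hmem.choose_spec.symm⟩
  have hjp : j.Coprime p := by
    rw [Nat.coprime_comm, hp.out.coprime_iff_not_dvd]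
    rintro ⟨c, rfl⟩
    obtain ⟨d, hd⟩ := IsPGroup.iff_orderOf.mp hR u₀
    have h1 : orderOf (h u₀) = orderOf u₀ := MulEquiv.orderOf_eq h u₀
    rcases d with _ | d
    · exact hu1 (orderOf_eq_one_iff.mp (by rw [hd, pow_zero]))
    have h2 : (h u₀) ^ p ^ d = 1 := by
      rw [hj, ← pow_mul, show p * c * p ^ d = p ^ (d + 1) * c by ring, ← hd, pow_mul, pow_orderOf_eq_one, one_pow]
    have h3 := Nat.le_of_dvd (pow_pos hp.out.pos d) (orderOf_dvd_of_pow_eq_one h2)
    rw [h1, hd, pow_succ] at h3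
    have := pow_pos hp.out.pos d
    have := Nat.mul_le_mul_left (p ^ d) hp.out.two_le
    omega
  have hiter : ∀ m : ℕ, (h ^ m) u₀ = u₀ ^ j ^ m := fun m => by
    induction m with
    | zero => simp
    | succ m ih => rw [pow_succ', MulAut.mul_apply, ih, map_pow, hj, ← pow_mul, pow_succ', mul_comm]
  have hone : (⟨h, hh⟩ : H) ^ ((p - 1) * p ^ e) = 1 := hdet _ _ (by
    show (h ^ ((p - 1) * p ^ e)) u₀ = u₀
    rw [hiter, CfsgLib.FusionNormal.pow_pow_totient_eq he hjp])
  have h2 : orderOf ((⟨h, hh⟩ : H) ^ (p - 1)) ∣ p ^ e := orderOf_dvd_of_pow_eq_one (by rw [← pow_mul]; exact hone)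
  have h3 : orderOf ((⟨h, hh⟩ : H) ^ (p - 1)) ∣ Nat.card H := orderOf_dvd_natCard _
  exact congrArg Subtype.val (orderOf_eq_one_iff.mp
    (Nat.eq_one_of_dvd_coprimes (Nat.Coprime.pow_right e hH) h3 h2))

/-- An automorphism of order three of the quaternion group of order 8. -/
theorem exists_order_three : ∃ φ : MulAut (QuaternionGroup 2), orderOf φ = 3 := by
  let g : ZMod (2 * 2) → QuaternionGroup 2 := fun i =>
    if i = 0 then 1 else if i = 2 then QuaternionGroup.a 2
    else if i = 1 then QuaternionGroup.xa 0 else QuaternionGroup.xa 2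
  let f : QuaternionGroup 2 → QuaternionGroup 2 := fun z => match z with
    | .a i => g i
    | .xa i => QuaternionGroup.xa 1 * g i
  have h3 : ∀ z, f (f (f z)) = z := by decide
  have hmul : ∀ a b, f (a * b) = f a * f b := by decide
  let φ : MulAut (QuaternionGroup 2) :=
    { toFun := f, invFun := fun z => f (f z), left_inv := h3, right_inv := h3, map_mul' := hmul }
  refine ⟨φ, orderOf_eq_prime (MulEquiv.ext h3) fun h => ?_⟩
  have h1 : f (QuaternionGroup.a 1) = QuaternionGroup.a 1 := DFunLike.congr_fun h (QuaternionGroup.a 1)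
  exact absurd h1 (by decide)

/-- The four-group has exponent two. -/
theorem pair_one_sq : ∀ g : Pair 1, g ^ 2 = 1 := by decide

end CfsgLib.MetaTwoFusion
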